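import Cfsg.Agent.Lib.Bender.Full.TWeak.Primes
import Cfsg.Agent.Lib.Bender.Bad.MaxPrime

/-!
# A core of a pair fixes exactly two points

If every non-trivial `O_s(D)`, `D = G_{bx}`, lies in a Sylow subgroup with three fixed points and lonely local
group, the pairs `G_{bx}` and `G_{bc}` (`c` the fixed point of a swapper normalizing these Sylow subgroups)
share a non-trivial normal subgroup `Z(J(N))`, `N` a Sylow subgroup of the centralizer of the `s'`-part of
the Fitting subgroup.
-/

set_option autoImplicit false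
set_option linter.style.haveILetI false
set_option linter.unusedSectionVars false

namespace CfsgLib.Bender.Full.TW

open Subgroup MulAction
open CfsgLib.Coprime (IsSylowIn conjBy)
open CfsgLib.CFun (core coCore isPGroup_core core_le le_normalizer_core coCore_le le_normalizer_coCore)
open CfsgLib.Invol (fixed_unique invol_conj invol_smul_smul invol_inv invol_mul_self)

universe u

variable {G : Type u} [Group G] [Finite G] {H : Subgroup G}

/-- The common centralizer of the cores for the primes other than `s`. -/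
def others (D : Subgroup G) (s : ℕ) : Subgroup G :=
  ⨅ (k : ℕ) (_ : k.Prime) (_ : k ≠ s), centralizer (core D k : Set G)

theorem mem_others {D : Subgroup G} {s : ℕ} {y : G} :
    y ∈ others D s ↔ ∀ k : ℕ, k.Prime → k ≠ s → y ∈ centralizer (core D k : Set G) := by
  simp [others, mem_iInf]

theorem core_conjBy (g : G) (D : Subgroup G) (q : ℕ) [Fact q.Prime] :
    conjBy g (core D q) = core (conjBy g D) q := by
  have key : ∀ (g : G) (D : Subgroup G), conjBy g (core D q) ≤ core (conjBy g D) q := fun g D =>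
    Bad.le_core_of_normal (map_mono core_le)
      ((map_mono le_normalizer_core).trans (le_normalizer_map _)) (isPGroup_core.map _)
  refine le_antisymm (key g D) ?_
  have h1 := map_mono (f := (MulAut.conj g).toMonoidHom) (key g⁻¹ (conjBy g D))
  change conjBy g (conjBy g⁻¹ (core (conjBy g D) q)) ≤ conjBy g (core (conjBy g⁻¹ (conjBy g D)) q) at h1
  rwa [CfsgLib.Coprime.conjBy_conjBy, CfsgLib.Coprime.conjBy_conjBy, mul_inv_cancel, inv_mul_cancel,
    CfsgLib.Coprime.conjBy_one, CfsgLib.Coprime.conjBy_one] at h1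

theorem core_le_sylowIn {D R : Subgroup G} {q : ℕ} [Fact q.Prime] (hR : IsSylowIn q R D) :
    core D q ≤ R := by
  have h1 := map_mono (f := D.subtype) (CfsgLib.Coprime.pCore_le_sylow (p := q) hR.toSylow)
  rwa [hR.map_toSylow] at h1

/-- The centralizers of the other cores agree on a common Sylow subgroup. -/
theorem inf_others_le {D1 D2 R : Subgroup G} {s : ℕ} [hs : Fact s.Prime] [Group.IsSolvable D1]
    (h1 : ∀ k : ℕ, k.Prime → core D2 k ≤ D1) (h2 : ∀ k : ℕ, k.Prime → core D1 k ≤ D2)
    (hR : IsPGroup s R) (hR2 : R ≤ D2) : R ⊓ others D1 s ≤ others D2 s := by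
  intro y hy
  refine mem_others.2 fun k hk hks => ?_
  haveI : Fact k.Prime := ⟨hk⟩
  set Q := R ⊓ others D1 s
  have hQP : Q ≤ centralizer (core D1 k : Set G) := fun z hz => mem_others.1 hz.2 k hk hks
  refine (CfsgLib.Coprime.pq_lemma (P := core D1 k) (Q := Q) (U := core D2 k) isPGroup_core ?_ isPGroup_core
    (le_centralizer_iff.1 hQP) ((h2 k hk).trans le_normalizer_core)
    ((inf_le_left.trans hR2).trans le_normalizer_core) ?_) hy
  · obtain ⟨i, hi⟩ := IsPGroup.iff_card.1 (hR.to_le (inf_le_left : Q ≤ R))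
    rw [hi]
    exact ((Nat.coprime_primes hs.out hk).2 hks.symm).pow_left i
  · set W := core D2 k ⊓ centralizer (core D1 k : Set G)
    have hWF : W ≤ Cfsg.fittingOf D1 := by
      refine (le_inf (inf_le_left.trans (h1 k hk)) ?_).trans CfsgLib.CFun.centralizer_fittingOf_le
      refine le_centralizer_iff.1 (CfsgLib.CFun.fittingOf_le_of_cores fun j hj => le_centralizer_iff.1 ?_)
      haveI : Fact j.Prime := ⟨hj⟩
      rcases eq_or_ne j k with rfl | hjk
      · exact inf_le_right
      · exact inf_le_left.trans (CfsgLib.CFun.le_centralizer_of_inf_eq_bot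
          ((h1 k hk).trans le_normalizer_core) ((h2 j hj).trans le_normalizer_core)
          (CfsgLib.CFun.inf_eq_bot_of_isPGroup isPGroup_core
            (CfsgLib.CFun.not_dvd_of_isPGroup hjk isPGroup_core)))
    exact (CfsgLib.CFun.le_core_of_le_fittingOf hWF (isPGroup_core.to_le inf_le_left)).trans
      (le_centralizer_iff.1 hQP)

/-- `Z(J(N))` is normal in `D` for a Sylow `s`-subgroup `N` of the common centralizer of the other cores. -/
theorem le_normalizer_zj {D R : Subgroup G} (hD : Odd (Nat.card D)) {s : ℕ} [hs : Fact s.Prime]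
    (hs2 : s ≠ 2) (hR : IsSylowIn s R D) :
    D ≤ normalizer (Cfsg.centerThompsonAOf (R ⊓ others D s) : Set G) := by
  set C := D ⊓ others D s with hC
  set N := R ⊓ others D s with hN
  have hDC : D ≤ normalizer (C : Set G) := by
    intro d hd
    refine mem_normalizer_fintype fun y hy => ?_
    refine ⟨D.mul_mem (D.mul_mem hd hy.1) (D.inv_mem hd), mem_others.2 fun k hk hks => ?_⟩
    exact (mem_normalizer_iff.1 (((le_normalizer_core (H := D) (s := k)).trans
      (CfsgLib.Coprime.normalizer_le_normalizer_centralizer _)) hd) y).1 (mem_others.1 hy.2 k hk hks)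
  have hNC : N ≤ C := inf_le_inf_right _ hR.1
  have hNsyl : IsSylowIn s N C := by
    refine ⟨hNC, le_antisymm (isPGroup_card_le (hR.isPGroup.to_le inf_le_left) hNC) ?_⟩
    obtain ⟨T, hT, -⟩ := exists_sylowIn_ge (K := C) (P := ⊥) (IsPGroup.of_bot (p := s)) bot_le
    obtain ⟨d, hd, hdR⟩ := exists_conjBy_le hT.isPGroup (hT.1.trans inf_le_left) hR
    rw [← hT.2, ← CfsgLib.Coprime.card_conjBy d T]
    exact card_le_of_le (le_inf hdR (((map_mono hT.1).trans
      (CfsgLib.Coprime.conjBy_eq_self_iff.2 (hDC hd)).le).trans inf_le_right))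
  set K := coCore C s with hK
  haveI := CfsgLib.Coprime.pPrimeCore_characteristic (G := C) s
  have hDK : D ≤ normalizer (K : Set G) :=
    hDC.trans (CfsgLib.PGroup.normalizer_le_normalizer_map_char C _)
  have hKC : K ≤ C := coCore_le
  have hCodd : Odd (Nat.card C) := hD.of_dvd_nat (card_dvd_of_le inf_le_left)
  haveI : Group.IsSolvable C := CfsgLib.FT.isSolvable_of_odd C hCodd
  haveI : Group.IsSolvable K := CfsgLib.FT.isSolvable_of_odd K (hCodd.of_dvd_nat (card_dvd_of_le hKC))
  have hKcent : K ≤ centralizer (C : Set G) := by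
    have hF : Cfsg.fittingOf K ≤ centralizer (C : Set G) := by
      refine CfsgLib.CFun.fittingOf_le_of_cores fun k hk => ?_
      haveI : Fact k.Prime := ⟨hk⟩
      rcases eq_or_ne k s with rfl | hks
      · have h1 := CfsgLib.CFun.inf_eq_bot_of_isPGroup (isPGroup_core (H := K) (s := k))
          (CfsgLib.CFun.not_dvd_coCore (H := C) (s := k))
        rw [inf_eq_left.2 core_le] at h1
        rw [h1]; exact bot_le
      · refine le_centralizer_iff.1 ?_
        have h1 : core K k ≤ core D k := Bad.le_core_of_normal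
          (core_le.trans (hKC.trans inf_le_left))
          (hDK.trans (Bad.normalizer_le_normalizer_core K k)) isPGroup_core
        exact fun y hy => centralizer_le h1 (mem_others.1 hy.2 k hk hks)
    exact (le_inf le_rfl (le_centralizer_iff.1 (hF.trans (centralizer_le hKC)))).trans
      (CfsgLib.CFun.centralizer_fittingOf_le.trans hF)
  have hCZ : C ≤ normalizer (Cfsg.centerThompsonAOf N : Set G) := by
    obtain ⟨-, htop⟩ := CfsgLib.CFun.zjA_factor hs2 hCodd hNsyl.toSylow
    set Z' := Cfsg.centerThompsonAOf (hNsyl.toSylow : Subgroup C) with hZ'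
    have hnorm : Cfsg.pPrimeCore s C ≤ normalizer (Z' : Set C) := fun x hx =>
      CfsgLib.Coprime.centralizer_le_normalizer_self _ (mem_centralizer_iff.2 fun z _ => Subtype.ext
        (mem_centralizer_iff.1 (hKcent ⟨x, hx, rfl⟩) z z.2))
    have htop' : normalizer (Z' : Set C) = ⊤ := top_le_iff.1 (htop ▸ sup_le hnorm le_rfl)
    have hZmap : Z'.map C.subtype = Cfsg.centerThompsonAOf N := by
      rw [hZ', CfsgLib.PGroup.ZJFailure.map_centerThompsonAOf_injective _ C.subtype_injective,
        hNsyl.map_toSylow]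
    intro x hx
    rw [← hZmap]
    exact le_normalizer_map C.subtype ⟨⟨x, hx⟩, htop'.symm ▸ mem_top _, rfl⟩
  intro d hd
  obtain ⟨k, hk, hkN⟩ := (hNsyl.conjBy (hDC hd)).exists_conj hNsyl
  rw [CfsgLib.Coprime.conjBy_conjBy] at hkN
  have h1 := CfsgLib.PushUp.normalizer_le_Jz (CfsgLib.Coprime.conjBy_eq_self_iff.1 hkN)
  simpa using mul_mem (inv_mem (hCZ hk)) h1

variable (h : MCtx H)
include h

/-- If one Sylow subgroup of a pair has three fixed points, all have. -/
theorem three_of_not_two {p : ℕ} [hp : Fact p.Prime] (hI : ¬ Two H p) {a c : G ⧸ H} (hac : a ≠ c)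
    {R : Subgroup G} (hR : IsSylowIn p R (pairStab a c)) : 2 < (fixSet R H).ncard := by
  simp only [Two, not_forall] at hI
  obtain ⟨a₀, c₀, R₀, hne, hR₀, z₀, hz₀, hza⟩ := hI
  rw [not_or] at hza
  obtain ⟨g, hga, hgc⟩ := h.toCore.exists_pair_map hne hac
  have hR1 : IsSylowIn p (conjBy g R₀) (pairStab a c) := by
    refine ⟨?_, ?_⟩
    · rw [← hga, ← hgc, ← Core.Ctx.conjBy_pairStab]; exact map_mono hR₀.1
    · rw [CfsgLib.Coprime.card_conjBy, hR₀.2, h.toCore.card_pairStab_eq hne hac]
  obtain ⟨k, hk, hkR⟩ := hR1.exists_conj hR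
  rw [CfsgLib.Coprime.conjBy_conjBy] at hkR
  have hfix : ∀ y ∈ fixSet R₀ H, (k * g) • y ∈ fixSet R H := fun y hy =>
    hkR ▸ conjBy_le_stabilizer (k * g) hy
  exact two_lt_ncard (hfix _ (hR₀.1.trans inf_le_left)) (hfix _ (hR₀.1.trans inf_le_right)) (hfix _ hz₀)
    (fun e => hne (smul_left_cancel _ e)) (fun e => hza.1 (smul_left_cancel _ e).symm)
    (fun e => hza.2 (smul_left_cancel _ e).symm)

/-- Some core of a pair belongs to a prime whose Sylow subgroups of the pairs fix exactly two points. -/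
theorem exists_two_core (hnc : NC H) {b x : G ⧸ H} (hbx : b ≠ x) (hne : pairStab b x ≠ ⊥) :
    ∃ q : ℕ, q.Prime ∧ q ≠ 2 ∧ core (pairStab b x) q ≠ ⊥ ∧ Two H q := by
  classical
  set D1 := pairStab b x with hD1
  have hodd := odd_pairStab h.se hbx
  haveI : Group.IsSolvable D1 := CfsgLib.FT.isSolvable_of_odd D1 hodd
  by_contra hno
  push Not at hno
  have hne2 : ∀ (k : ℕ) [Fact k.Prime], core D1 k ≠ ⊥ → k ≠ 2 := fun k _ hc e =>
    hodd.not_two_dvd_nat (e ▸ (CfsgLib.CFun.dvd_of_core_ne_bot hc).trans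
      (card_dvd_of_le CfsgLib.CFun.fittingOf_le))
  obtain ⟨v, hv, hvb⟩ := exists_swapper h.se hbx
  obtain ⟨c, hvc⟩ := exists_fixed h.se hv
  have hcb : c ≠ b := fun e => hbx (by rw [← hvb]; exact (e ▸ hvc).symm)
  have hcx : c ≠ x := fun e => hbx (by
    rw [← invol_smul_smul hv b, hvb]; exact e ▸ hvc)
  have hR : ∀ k : ℕ, k.Prime → core D1 k ≠ ⊥ → ∃ R : Subgroup G, IsSylowIn k R D1 ∧
      v ∈ normalizer (R : Set G) ∧ c ∈ fixSet R H := by
    intro k hk hck
    haveI : Fact k.Prime := ⟨hk⟩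
    obtain ⟨R, hR, -, hvR, -⟩ := exists_pair_sylow h.se hbx hv hvb (r := k)
      (P := ⊥) IsPGroup.of_bot bot_le (by rw [normalizer_eq_top]; exact mem_top v)
    have h3 := three_of_not_two h (hno k hk (hne2 k hck) hck) hbx hR
    obtain ⟨-, hinv⟩ := h.toCore.local_of_pair_sylow (hne2 k hck) hbx hR h3
    have hbR : b ∈ fixSet R H := hR.1.trans inf_le_left
    have hxR : x ∈ fixSet R H := hR.1.trans inf_le_right
    obtain ⟨w, hwR, hw, hwb⟩ := hinv b hbR
    have hRodd : Odd (Nat.card R) := hodd.of_dvd_nat (card_dvd_of_le hR.1)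
    by_cases hM : Lonely (normalizer (R : Set G))
    · obtain ⟨o, ho, -, hob⟩ := exists_core_smul h hM hwR hvR hw hv hwb hvc
      exact ⟨R, hR, hvR, hob ▸ smul_mem_fixSet (coreOf_le _ ho) hbR⟩
    · have hwC := centralizer_le (core_le_sylowIn hR)
        (centralizes_of_not_lonely h hRodd hM hxR hbx.symm hwR hw hwb)
      exact (false_of_normalized h hnc hck (hodd.of_dvd_nat (card_dvd_of_le core_le)) hbx.symm
        (core_le.trans inf_le_left) (core_le.trans inf_le_right) le_normalizer_core hw hwb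
        (CfsgLib.Coprime.centralizer_le_normalizer_self _ hwC)).elim
  set D2 := pairStab b c with hD2
  obtain ⟨g, hgb, hgx⟩ := h.toCore.exists_pair_map hbx hcb.symm
  have hD12 : conjBy g D1 = D2 := by rw [hD1, Core.Ctx.conjBy_pairStab, hgb, hgx]
  have hsyl2 : ∀ {k : ℕ} {R : Subgroup G}, IsSylowIn k R D1 → c ∈ fixSet R H → IsSylowIn k R D2 :=
    fun {k R} hR hcR => ⟨le_inf (hR.1.trans inf_le_left) hcR,
      by rw [hR.2, hD2, h.toCore.card_pairStab_eq hbx hcb.symm]⟩
  have h12 : ∀ k : ℕ, k.Prime → core D1 k ≤ D2 ∧ core D2 k ≤ D1 := by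
    intro k hk
    haveI : Fact k.Prime := ⟨hk⟩
    by_cases hck : core D1 k = ⊥
    · rw [hck, ← hD12, ← core_conjBy, hck]
      exact ⟨bot_le, by rw [conjBy, Subgroup.map_bot]; exact bot_le⟩
    obtain ⟨R, hR, -, hcR⟩ := hR k hk hck
    exact ⟨(core_le_sylowIn hR).trans (hsyl2 hR hcR).1, (core_le_sylowIn (hsyl2 hR hcR)).trans hR.1⟩
  obtain ⟨s, hs, hsc⟩ : ∃ s : ℕ, s.Prime ∧ core D1 s ≠ ⊥ := by
    by_contra hc
    push Not at hc
    have hF : Cfsg.fittingOf D1 ≤ ⊥ := CfsgLib.CFun.fittingOf_le_of_cores fun t ht => (hc t ht).le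
    refine hne (le_bot_iff.1 ((le_inf le_rfl fun y _ => ?_).trans
      (CfsgLib.CFun.centralizer_fittingOf_le.trans hF)))
    exact mem_centralizer_iff.2 fun z hz => by rw [mem_bot.1 (hF hz), one_mul, mul_one]
  haveI : Fact s.Prime := ⟨hs⟩
  obtain ⟨R, hRD, hvR, hcR⟩ := hR s hs hsc
  have hRD2 := hsyl2 hRD hcR
  haveI : Group.IsSolvable D2 := CfsgLib.FT.isSolvable_of_odd D2 (odd_pairStab h.se hcb.symm)
  set N := R ⊓ others D1 s with hN
  have hN2 : R ⊓ others D2 s = N := le_antisymm
    (le_inf inf_le_left (inf_others_le (fun k hk => (h12 k hk).1) (fun k hk => (h12 k hk).2)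
      hRD.isPGroup hRD.1))
    (le_inf inf_le_left (inf_others_le (fun k hk => (h12 k hk).2) (fun k hk => (h12 k hk).1)
      hRD.isPGroup hRD2.1))
  set Z := Cfsg.centerThompsonAOf N with hZ
  have hZN : Z ≤ N := CfsgLib.PushUp.Jz_le_self
  have hZD2 : D2 ≤ normalizer (Z : Set G) := by
    have h1 := le_normalizer_zj (odd_pairStab h.se hcb.symm) (hne2 s hsc) hRD2
    rwa [hN2] at h1
  have hvN : v ∈ normalizer (N : Set G) := by
    refine mem_normalizer_fintype fun y hy => ⟨(mem_normalizer_iff.1 hvR y).1 hy.1, mem_others.2 ?_⟩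
    intro k hk hks
    haveI : Fact k.Prime := ⟨hk⟩
    exact (mem_normalizer_iff.1 (CfsgLib.Coprime.normalizer_le_normalizer_centralizer _
      (Bad.normalizer_le_normalizer_core D1 k (mem_normalizer_pairStab hv hvb))) y).1
      (mem_others.1 hy.2 k hk hks)
  have hNne : N ≠ ⊥ := by
    refine fun e => hsc (le_bot_iff.1 ((le_inf (core_le_sylowIn hRD) fun y hy => ?_).trans e.le))
    refine mem_others.2 fun k hk hks => ?_
    haveI : Fact k.Prime := ⟨hk⟩
    exact CfsgLib.CFun.le_centralizer_of_inf_eq_bot (core_le.trans le_normalizer_core)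
      (core_le.trans le_normalizer_core) (CfsgLib.CFun.inf_eq_bot_of_isPGroup isPGroup_core
        (CfsgLib.CFun.not_dvd_of_isPGroup hks isPGroup_core)) hy
  have hZne : Z ≠ ⊥ := fun e => by
    haveI : Nontrivial N := (nontrivial_iff_ne_bot N).2 hNne
    haveI := (hRD.isPGroup.to_le (inf_le_left : N ≤ R)).center_nontrivial
    obtain ⟨⟨z, hz⟩, hz1⟩ := exists_ne (1 : center N)
    refine hz1 (Subtype.ext (Subtype.ext (mem_bot.1 (e ▸ CfsgLib.PushUp.center_le_Jz
      (S := N) ⟨z.2, mem_centralizer_iff.2 fun y hy => ?_⟩))))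
    exact congrArg Subtype.val (mem_center_iff.1 hz ⟨y, hy⟩)
  refine false_of_normalized h hnc hZne (hodd.of_dvd_nat (card_dvd_of_le
    (hZN.trans (inf_le_left.trans hRD.1)))) (b := c) (x := b) hcb.symm
    (hZN.trans (inf_le_left.trans hcR)) (hZN.trans (inf_le_left.trans (hRD.1.trans inf_le_left)))
    (by rw [pairStab, inf_comm]; exact hZD2) hv hvc (CfsgLib.PushUp.normalizer_le_Jz hvN)

end CfsgLib.Bender.Full.TW
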