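import Cfsg.Agent.Lib.Bender.Full.TWeak.Tools
import Cfsg.Agent.Lib.Bender.Core.LocalAt

/-!
# Primes whose Sylow subgroups of a pair fix exactly two points

`false_of_lonely_two`: a lonely subgroup with an involution at `i` has no `p`-subgroup fixing exactly `i` and
a point of the orbit of `i` under its odd core.  `exists_centralizing`: a `p`-group with three fixed points
is centralized by an involution at any given one of them.
-/

set_option autoImplicit false
set_option linter.style.haveILetI false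
set_option linter.unusedSectionVars false

namespace CfsgLib.Bender.Full.TW

open Subgroup MulAction
open CfsgLib.Coprime (IsSylowIn conjBy)
open CfsgLib.Invol (fixed_unique invol_conj invol_smul_smul invol_inv invol_mul_self)

universe u

variable {G : Type u} [Group G] [Finite G] {H : Subgroup G}

/-- The Sylow `p`-subgroups of the pairs fix exactly two points. -/
def Two (H : Subgroup G) (p : ℕ) : Prop :=
  ∀ (a c : G ⧸ H) (R : Subgroup G), a ≠ c → IsSylowIn p R (pairStab a c) →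
    ∀ z ∈ fixSet R H, z = a ∨ z = c

variable (h : MCtx H) {p : ℕ} [hp : Fact p.Prime]
include h

/-- In a lonely subgroup the involutions at two points are conjugate under the odd core. -/
theorem exists_core_smul {M : Subgroup G} (hM : Lonely M) {v w : G} (hv : v ∈ M) (hw : w ∈ M)
    (hvo : orderOf v = 2) (hwo : orderOf w = 2) {i j : G ⧸ H} (hvi : v • i = i) (hwj : w • j = j) :
    ∃ o ∈ coreOf M, o * v * o⁻¹ = w ∧ o • i = j := by
  have h1 : v * w ∈ coreOf M := mul_mem_coreOf hM hv hw hvo hwo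
  obtain ⟨d, hd, hde⟩ := CfsgLib.Invol.exists_conj_eq_of_odd hvo hwo
    ((odd_coreOf M).of_dvd_nat (Subgroup.orderOf_dvd_natCard _ h1))
  exact ⟨d, zpowers_le.2 h1 hd, hde, fixed_unique h.se hwo (by
    rw [← hde]; exact CfsgLib.Invol.conj_fixes.2 hvi) hwj⟩

include hp in
/-- A `p`-subgroup of `G_i` has a second fixed point. -/
theorem exists_second (hII : Two H p) {i j : G ⧸ H} (hij : i ≠ j) {S : Subgroup G} (hS : IsPGroup p S)
    (hSi : i ∈ fixSet S H) : ∃ d ∈ fixSet S H, d ≠ i := by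
  obtain ⟨R, hR, -⟩ := exists_sylowIn_ge (K := pairStab i j) (P := ⊥) (IsPGroup.of_bot (p := p)) bot_le
  obtain ⟨k, hk, hkR⟩ := exists_conjBy_le hS hSi (sylowIn_stab_of_two hR hij (hII i j R hij hR))
  refine ⟨k⁻¹ • j, fun y hy => ?_, fun e => hij ?_⟩
  · have h1 : (k * y * k⁻¹) • j = j := mem_stabilizer_iff.1 ((hR.1 (hkR ⟨y, hy, rfl⟩)).2)
    rw [mem_stabilizer_iff]
    calc y • k⁻¹ • j = k⁻¹ • ((k * y * k⁻¹) • j) := by simp [smul_smul, mul_assoc]
      _ = _ := by rw [h1]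
  · rw [inv_smul_eq_iff, mem_stabilizer_iff.1 hk] at e
    exact e.symm

include hp in
/-- (A+) -/
theorem false_of_lonely_two (hII : Two H p) (hp2 : p ≠ 2) {M P : Subgroup G} (hPp : IsPGroup p P)
    (hPM : P ≤ M) {o : G} (ho : o ∈ coreOf M) {i j : G ⧸ H} (hoi : o • i = j) (hij : i ≠ j)
    (hfix : ∀ z, z ∈ fixSet P H ↔ z = i ∨ z = j) : False := by
  set O := coreOf M with hO
  set Y := O ⊔ P with hY
  have hYodd : Odd (Nat.card Y) := by
    have hdvd : Nat.card Y ∣ Nat.card P * Nat.card O := by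
      rw [hY, sup_comm]
      exact CfsgLib.Coprime.card_sup_dvd_of_le_normalizer (hPM.trans (le_normalizer_coreOf M))
    exact ((odd_card_of_isPGroup hp2 hPp).mul (odd_coreOf M)).of_dvd_nat hdvd
  have hoY : o ∈ Y := mem_sup_left ho
  obtain ⟨S, hS, hPS⟩ := exists_sylowIn_ge (K := Y ⊓ stabilizer G i) hPp
    (le_inf le_sup_right ((hfix i).2 (Or.inl rfl)))
  have hSi : i ∈ fixSet S H := hS.1.trans inf_le_right
  obtain ⟨d, hd, hdi⟩ := exists_second h hII hij hS.isPGroup hSi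
  have hSfix : ∀ z ∈ fixSet S H, z = i ∨ z = j := fun z hz => (hfix z).1 (hPS.trans hz)
  obtain rfl : d = j := (hSfix d hd).resolve_left hdi
  have hconj : conjBy o (Y ⊓ stabilizer G i) = Y ⊓ stabilizer G d := by
    rw [conjBy, Subgroup.map_inf _ _ _ (MulAut.conj o).injective,
      ← stabilizer_smul_eq_stabilizer_map_conj, hoi]
    change conjBy o Y ⊓ _ = _
    rw [CfsgLib.Coprime.conjBy_eq_self_iff.2 (le_normalizer hoY)]
  have hS1 : IsSylowIn p S (Y ⊓ stabilizer G d) := ⟨le_inf (hS.1.trans inf_le_left) hd, by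
    rw [hS.2, ← hconj, CfsgLib.Coprime.card_conjBy]⟩
  have hS2 : IsSylowIn p (conjBy o S) (Y ⊓ stabilizer G d) := ⟨(map_mono hS.1).trans hconj.le, by
    rw [CfsgLib.Coprime.card_conjBy, hS.2, ← hconj, CfsgLib.Coprime.card_conjBy]⟩
  obtain ⟨k, hk, hkS⟩ := hS2.exists_conj hS1
  rw [CfsgLib.Coprime.conjBy_conjBy] at hkS
  set e := k * o with he
  have hei : e • i = d := by rw [he, mul_smul, hoi, mem_stabilizer_iff.1 hk.2]
  have hed : e • d = i := by
    have h1 : e • d ∈ fixSet S H := hkS ▸ conjBy_le_stabilizer e hd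
    rcases hSfix _ h1 with e1 | e1
    · exact e1
    · exact absurd (smul_left_cancel e (hei.trans e1.symm)) hij
  obtain ⟨n, hn⟩ := (hYodd.of_dvd_nat (Subgroup.orderOf_dvd_natCard Y (x := e)
    (mul_mem hk.1 hoY)) : Odd (orderOf e))
  have h2 : e ^ 2 ∈ stabilizer G i := by
    rw [mem_stabilizer_iff, pow_two, mul_smul, hei, hed]
  refine hij ?_
  calc i = (e ^ orderOf e) • i := by rw [pow_orderOf_eq_one, one_smul]
    _ = d := by rw [hn, pow_succ', pow_mul, mul_smul, mem_stabilizer_iff.1 (pow_mem h2 n), hei]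

omit h in
/-- Three fixed points from two distinct points and a third. -/
theorem two_lt_ncard {P : Subgroup G} {a b c : G ⧸ H} (ha : a ∈ fixSet P H) (hb : b ∈ fixSet P H)
    (hc : c ∈ fixSet P H) (hab : a ≠ b) (hac : a ≠ c) (hbc : b ≠ c) : 2 < (fixSet P H).ncard :=
  (Set.two_lt_ncard_iff (Set.toFinite _)).2 ⟨a, b, c, ha, hb, hc, hab, hac, hbc⟩

/-- In a subgroup with two commuting involutions, every involution commutes with another one. -/
theorem centralizes_of_not_lonely {Q : Subgroup G} (hQ : Odd (Nat.card Q))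
    (hM : ¬ Lonely (normalizer (Q : Set G))) {b c : G ⧸ H} (hc : c ∈ fixSet Q H) (hcb : c ≠ b) {w : G}
    (hwQ : w ∈ normalizer (Q : Set G)) (hw : orderOf w = 2) (hwb : w • b = b) :
    w ∈ centralizer (Q : Set G) := by
  by_contra hcent
  refine hM (lonely_of_one hwQ hw fun s hs hso hcomm => ?_).1
  by_contra hne
  exact hcent (centralizes_of_pair h hQ hc hcb hw hso (Ne.symm hne) hcomm hwb hwQ hs)

include hp in
/-- A `p`-group with three fixed points is centralized by an involution at each of them. -/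
theorem exists_centralizing (hII : Two H p) (hp2 : p ≠ 2) {P : Subgroup G} (hP : IsPGroup p P)
    (h3 : 2 < (fixSet P H).ncard) {b : G ⧸ H} (hb : b ∈ fixSet P H) :
    ∃ w : G, orderOf w = 2 ∧ w • b = b ∧ w ∈ centralizer (P : Set G) := by
  obtain ⟨Q₀, -, hQ₀⟩ := exists_maximal_ge_of_wellFoundedGT
    (fun S : Subgroup G => IsPGroup p S ∧ P ≤ S ∧ b ∈ fixSet S H ∧ 2 < (fixSet S H).ncard) P
    ⟨hP, le_rfl, hb, h3⟩
  obtain ⟨hQp, hPQ, hbQ, hQ3⟩ := hQ₀.prop
  obtain ⟨Q, hQ, hle, hbQ', hQ3', -, hinv⟩ := h.toCore.exists_local_at hp2 hQp hbQ hQ3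
  obtain rfl : Q₀ = Q := le_antisymm hle (hQ₀.le_of_ge ⟨hQ, hPQ.trans hle, hbQ', hQ3'⟩ hle)
  obtain ⟨w, hwQ, hw, hwb⟩ := hinv b hbQ
  obtain ⟨c, hc, hcb⟩ := Set.exists_ne_of_one_lt_ncard (show 1 < (fixSet Q₀ H).ncard by omega) b
  refine ⟨w, hw, hwb, centralizer_le hPQ (centralizes_of_not_lonely h (odd_card_of_isPGroup hp2 hQ)
    (fun hM => ?_) hc hcb hwQ hw hwb)⟩
  obtain ⟨w', hw'Q, hw', hw'c⟩ := hinv c hc
  obtain ⟨o, ho, -, hob⟩ := exists_core_smul h hM hwQ hw'Q hw hw' hwb hw'c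
  obtain ⟨R, hR, hQR⟩ := exists_sylowIn_ge (K := pairStab b c) hQ (le_inf hbQ hc)
  have hne : ¬ R ≤ Q₀ := fun hle => by
    obtain ⟨e, f, g, he, hf, hg, hef, heg, hfg⟩ := (Set.two_lt_ncard_iff (Set.toFinite _)).1 hQ3
    have hR2 := hII b c R hcb.symm hR
    rcases hR2 e (hle.trans he) with rfl | rfl <;> rcases hR2 f (hle.trans hf) with rfl | rfl <;>
      rcases hR2 g (hle.trans hg) with rfl | rfl <;> simp_all
  obtain ⟨y, hyR, hyN, hyQ⟩ := CfsgLib.Invol.exists_mem_normalizer_notMem hR.isPGroup hQR hne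
  set R1 := R ⊓ normalizer (Q₀ : Set G) with hR1
  have hb1 : b ∈ fixSet R1 H := inf_le_left.trans (hR.1.trans inf_le_left)
  have hc1 : c ∈ fixSet R1 H := inf_le_left.trans (hR.1.trans inf_le_right)
  refine false_of_lonely_two h hII hp2 (hR.isPGroup.to_le inf_le_left) inf_le_right ho hob hcb.symm
    fun z => ⟨fun hz => ?_, ?_⟩
  · by_contra hcon
    push Not at hcon
    exact hyQ (hQ₀.le_of_ge ⟨hR.isPGroup.to_le inf_le_left, hPQ.trans (le_inf hQR le_normalizer), hb1,
      two_lt_ncard hz hb1 hc1 hcon.1 hcon.2 hcb.symm⟩ (le_inf hQR le_normalizer) ⟨hyR, hyN⟩)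
  · rintro (rfl | rfl) <;> assumption

include hp in
/-- An inverted `p`-element of a pair fixes only the pair. -/
theorem fix_two_of_inverted (hII : Two H p) (hp2 : p ≠ 2) {c c' : G ⧸ H} (hne : c ≠ c') {u : G}
    (hu : orderOf u = 2) (huc : u • c = c') {z : G} (hzc : z • c = c) (hzc' : z • c' = c') (hz1 : z ≠ 1)
    (hz : IsPGroup p (zpowers z)) (hinv : u * z * u⁻¹ = z⁻¹) :
    ∀ d, d ∈ fixSet (zpowers z) H ↔ d = c ∨ d = c' := by
  have hmem : ∀ {d : G ⧸ H}, z • d = d → d ∈ fixSet (zpowers z) H := fun hd =>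
    zpowers_le.2 (mem_stabilizer_iff.2 hd)
  intro d
  refine ⟨fun hd => ?_, ?_⟩
  · by_contra hcon
    push Not at hcon
    obtain ⟨w, hw, -, hwz⟩ := exists_centralizing h hII hp2 hz
      (two_lt_ncard hd (hmem hzc) (hmem hzc') hcon.1 hcon.2 hne) hd
    exact bad h hne hu huc hzc hzc' hz1 hinv hw (mem_centralizer_iff.1 hwz z (mem_zpowers z)).symm
  · rintro (rfl | rfl)
    exacts [hmem hzc, hmem hzc']

end CfsgLib.Bender.Full.TW
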