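import Cfsg.Agent.Lib.Bender.Full.Ctx
import Cfsg.Agent.Lib.Coprime.Action

/-!
# Inverted elements: tools

`bad`: a non-identity element of a pair inverted by a swapper commutes with no involution.
`centralizes_of_pair`: two commuting involutions at a fixed point `a` of an odd group `A` with a second fixed
point centralize `A`.  `false_of_normalized`: no non-trivial odd subgroup fixing two points is normalized by
the pair and by an involution at one of them.
-/

set_option autoImplicit false
set_option linter.style.haveILetI false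
set_option linter.unusedSectionVars false

namespace CfsgLib.Bender.Full.TW

open Subgroup MulAction
open CfsgLib.Coprime (IsSylowIn conjBy)
open CfsgLib.Invol (fixed_unique invol_conj invol_smul_smul invol_inv invol_mul_self)

universe u

variable {G : Type u} [Group G] [Finite G] {H : Subgroup G}

/-- At every point two involutions do not commute. -/
def NC (H : Subgroup G) : Prop :=
  ∀ a : G ⧸ H, ∃ t s : G, orderOf t = 2 ∧ orderOf s = 2 ∧ t • a = a ∧ s • a = a ∧ ¬ Commute t s

variable (h : MCtx H)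
include h

/-- An element of a pair inverted by a swapper commutes with no involution. -/
theorem bad {c c' : G ⧸ H} (hne : c ≠ c') {u : G} (hu : orderOf u = 2) (huc : u • c = c') {z : G}
    (hzc : z • c = c) (hzc' : z • c' = c') (hz1 : z ≠ 1) (hinv : u * z * u⁻¹ = z⁻¹) {t : G}
    (ht : orderOf t = 2) (htz : Commute t z) : False := by
  obtain ⟨g, rfl⟩ := MulAction.exists_smul_eq G (base H) c
  have hstab : stabilizer G (base H) = H := MulAction.stabilizer_quotient H
  have hm : ∀ y : G, y ∈ H ↔ y • base H = base H := fun y => by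
    rw [← mem_stabilizer_iff, hstab]
  have hconj : ∀ y : G, (g⁻¹ * y * g) • base H = g⁻¹ • y • g • base H := fun y => by
    rw [mul_smul, mul_smul]
  set u' := g⁻¹ * u * g with hu'
  set z' := g⁻¹ * z * g with hz'
  have hu'o : orderOf u' = 2 := by simpa using invol_conj hu g⁻¹
  have hu'H : u' ∉ H := fun e => hne (by
    have h1 := (hm u').1 e
    rw [hconj, huc, inv_smul_eq_iff] at h1
    exact h1.symm)
  refine CfsgLib.Bender.Bad.false_of_bad h.coreThm h.se h.core hu'o hu'H (z := z') (t := g⁻¹ * t * g)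
    ⟨(hm z').2 ?_, ⟨u'⁻¹ * z' * u', (hm _).2 ?_, by simp [mul_assoc]⟩⟩ ?_ ?_ ?_ ?_
  · rw [hconj, hzc, inv_smul_smul]
  · rw [mul_smul, mul_smul, show u' • base H = g⁻¹ • c' by rw [hconj, huc],
      show z' • g⁻¹ • c' = g⁻¹ • c' by rw [hz', mul_smul, mul_smul, smul_inv_smul, hzc'],
      inv_smul_eq_iff, hconj, huc]
  · intro e
    exact hz1 (by rw [show z = g * z' * g⁻¹ by rw [hz']; group, e]; group)
  · rw [hu', hz', show (g⁻¹ * z * g)⁻¹ = g⁻¹ * z⁻¹ * g by group, ← hinv]; group
  · simpa using invol_conj ht g⁻¹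
  · simpa using htz.map (MulAut.conj g⁻¹).toMonoidHom

/-- Every involution commutes with another one. -/
theorem exists_partner {t : G} (ht : orderOf t = 2) {a : G ⧸ H} (hta : t • a = a) :
    ∃ s : G, orderOf s = 2 ∧ s ≠ t ∧ Commute t s ∧ s • a = a := by
  obtain ⟨t₀, s₀, ht₀, hs₀, hne, hc⟩ := h.pair
  obtain ⟨g, rfl⟩ := isConj_iff.1 (show IsConj t₀ t from by
    obtain ⟨i, hi, hio⟩ := CfsgLib.Invol.exists_invol_mem h.se.2.1
    exact (CfsgLib.Invol.exists_conj_fixing h.se hio ht₀).symm.trans
      (CfsgLib.Invol.exists_conj_fixing h.se hio ht))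
  have hcomm : Commute (g * t₀ * g⁻¹) (g * s₀ * g⁻¹) := hc.map (MulAut.conj g).toMonoidHom
  exact ⟨g * s₀ * g⁻¹, invol_conj hs₀ g, fun e => hne (by simpa using e.symm), hcomm,
    mem_stabilizer_iff.1 (centralizer_le_stabilizer h.se ht hta
      (mem_centralizer_singleton_iff.2 hcomm.symm.eq))⟩

/-- Two commuting involutions at a fixed point centralize an odd group with a second fixed point. -/
theorem centralizes_of_pair {A : Subgroup G} (hA : Odd (Nat.card A)) {a c : G ⧸ H}
    (hc : c ∈ fixSet A H) (hca : c ≠ a) {v s : G} (hv : orderOf v = 2) (hs : orderOf s = 2)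
    (hne : v ≠ s) (hcomm : Commute v s) (hva : v • a = a)
    (hvA : v ∈ normalizer (A : Set G)) (hsA : s ∈ normalizer (A : Set G)) :
    v ∈ centralizer (A : Set G) := by
  set V := closure ({v, s} : Set G)
  haveI : IsKleinFour V := CfsgLib.Invol.isKleinFour_closure_pair hv hs hne hcomm
  haveI : IsMulCommutative V :=
    ⟨⟨fun a b => mul_comm_of_exponent_two IsKleinFour.exponent_two a b⟩⟩
  have hVA : V ≤ normalizer (A : Set G) := (closure_le _).2 (by
    rintro x (rfl | rfl) <;> assumption)
  have hcop : (Nat.card V).Coprime (Nat.card A) := by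
    rw [IsKleinFour.card_four]
    exact (Nat.coprime_two_left.2 hA).pow_left 2
  have hle : A ≤ centralizer ({v} : Set G) := by
    refine CfsgLib.Coprime.le_of_centralizers_le IsKleinFour.not_isCyclic hVA hcop fun x hx hx1 => ?_
    intro y ⟨hyA, hyx⟩
    have hxo : orderOf x = 2 := orderOf_eq_prime (by
      have h1 := congrArg Subtype.val (IsKleinFour.mul_self (⟨x, hx⟩ : V))
      simpa [sq] using h1) hx1
    have hxv : Commute x v :=
      congrArg Subtype.val (mul_comm' (⟨x, hx⟩ : V) ⟨v, subset_closure (by simp)⟩)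
    have hxy : Commute x y := (mem_centralizer_singleton_iff.1 hyx).symm
    set z := y⁻¹ * (v * y * v⁻¹) with hz
    by_contra hyv
    have hz1 : z ≠ 1 := fun e => hyv (mem_centralizer_singleton_iff.2 (by
      rw [hz, inv_mul_eq_one, eq_mul_inv_iff_mul_eq] at e
      exact e))
    have hzA : z ∈ A := mul_mem (inv_mem hyA) ((mem_normalizer_iff.1 hvA y).1 hyA)
    have hc' : v • c ∈ fixSet A H := smul_mem_fixSet hvA hc
    refine bad h (c := c) (c' := v • c) (fun e => hca (fixed_unique h.se hv e.symm hva)) hv rfl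
      (z := z) (smul_eq_of_mem hc hzA) (smul_eq_of_mem hc' hzA) hz1 ?_ hxo ?_
    · have hvv : v * v = 1 := invol_mul_self hv
      rw [hz, invol_inv hv, mul_inv_rev, inv_inv, mul_inv_rev, mul_inv_rev, invol_inv hv,
        show v * (y⁻¹ * (v * y * v)) * v = v * y⁻¹ * v * y * (v * v) by group, hvv, mul_one]
      group
    · exact (hxy.inv_right).mul_right ((hxv.mul_right hxy).mul_right hxv.inv_right)
  exact mem_centralizer_iff.2 fun y hy => mem_centralizer_singleton_iff.1 (hle hy)

/-- A point stabilizer has no non-trivial odd normal subgroup. -/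
theorem eq_bot_of_normal {b : G ⧸ H} {Y : Subgroup G} (hY : Y ≤ stabilizer G b)
    (hn : stabilizer G b ≤ normalizer (Y : Set G)) (hodd : Odd (Nat.card Y)) : Y = ⊥ := by
  have hOG : Cfsg.oddCore G = ⊥ := by
    haveI : (Cfsg.oddCore G).Normal := Subgroup.sSup_normal _ fun _ h => h.1
    obtain ⟨p, s, hp, hs, hne, hc'⟩ := h.pair
    obtain ⟨a, ha, -⟩ := exists_fixed_of_pair h.se (Core.odd_card_oddCore G) hp hs hne hc'
      (by rw [normalizer_eq_top]; exact mem_top p) (by rw [normalizer_eq_top]; exact mem_top s)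
    by_contra hne'
    exact h.toCore.normalizer_ne_top_of_fixed ha hne' (normalizer_eq_top _)
  obtain ⟨g, hg⟩ := MulAction.exists_smul_eq G b (base H)
  have hstab : conjBy g (stabilizer G b) = H := by
    rw [conjBy, ← stabilizer_smul_eq_stabilizer_map_conj, hg]
    exact MulAction.stabilizer_quotient H
  set Y' := conjBy g Y with hY'
  have hY'H : Y' ≤ H := (map_mono hY).trans hstab.le
  have hHn : H ≤ normalizer (Y' : Set G) := hstab.ge.trans ((map_mono hn).trans
    (le_normalizer_map _))
  haveI : (Y'.subgroupOf H).Normal := normal_subgroupOf_of_le_normalizer hHn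
  have h1 : Y'.subgroupOf H ≤ Cfsg.oddCore H := CfsgLib.Coprime.le_pPrimeCore_of_not_dvd Nat.prime_two (by
    rw [Nat.card_congr (subgroupOfEquivOfLe hY'H).toEquiv, hY', CfsgLib.Coprime.card_conjBy]
    exact hodd.not_two_dvd_nat)
  have h2 : Y' ≤ ⊥ := by
    rw [← hOG, ← map_subgroupOf_eq_of_le hY'H]
    exact (map_mono h1).trans (h.coreThm G H h.se)
  exact card_eq_one.1 (by rw [← CfsgLib.Coprime.card_conjBy g Y, ← hY', le_bot_iff.1 h2, Subgroup.card_bot])

omit [Finite G] in
theorem smul_pairStab {b x : G ⧸ H} {d : G} (hd : d ∈ pairStab b x) : d • b = b ∧ d • x = x :=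
  ⟨mem_stabilizer_iff.1 hd.1, mem_stabilizer_iff.1 hd.2⟩

/-- (N) No non-trivial odd subgroup fixing `b` and `x` is normalized by `G_{bx}` and an involution at `b`. -/
theorem false_of_normalized (hnc : NC H) {Z : Subgroup G} (hne : Z ≠ ⊥) (hZ : Odd (Nat.card Z))
    {b x : G ⧸ H} (hxb : x ≠ b) (hb : b ∈ fixSet Z H) (hx : x ∈ fixSet Z H)
    (hD : pairStab b x ≤ normalizer (Z : Set G)) {w : G} (hw : orderOf w = 2) (hwb : w • b = b)
    (hwZ : w ∈ normalizer (Z : Set G)) : False := by
  obtain ⟨u, hu, hub⟩ := exists_swapper h.se hxb.symm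
  have hnorm : ∀ t : G, orderOf t = 2 → t • b = b → t ∈ normalizer (Z : Set G) := by
    intro t ht htb
    obtain ⟨d, -, hdb, hdx, rfl⟩ := transitive_fixing h.se ⊤ (u := u) (a := b) (mem_top _)
      (by rw [hub]; exact hxb) hw (mem_top _) hwb ht (mem_top _) htb
    have hdD : d ∈ normalizer (Z : Set G) :=
      hD ⟨mem_stabilizer_iff.2 hdb, mem_stabilizer_iff.2 (by rw [← hub]; exact hdx)⟩
    exact mul_mem (mul_mem hdD hwZ) (inv_mem hdD)
  have hcent : ∀ t : G, orderOf t = 2 → t • b = b → t ∈ centralizer (Z : Set G) := by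
    intro t ht htb
    obtain ⟨s, hs, hst, hts, hsb⟩ := exists_partner h ht htb
    exact centralizes_of_pair h hZ hx hxb ht hs hst.symm hts htb (hnorm t ht htb) (hnorm s hs hsb)
  set J : Set G := {t : G | orderOf t = 2 ∧ t • b = b} with hJ
  set Y := stabilizer G b ⊓ centralizer J with hY
  have hYn : stabilizer G b ≤ normalizer (Y : Set G) := by
    intro g hg
    refine mem_normalizer_fintype fun y hy => ?_
    have hy' : y ∈ Y := hy
    refine ⟨Subgroup.mul_mem _ (Subgroup.mul_mem _ hg hy'.1) (Subgroup.inv_mem _ hg), mem_centralizer_iff.2 ?_⟩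
    rintro t ⟨ht, htb⟩
    have h1 := mem_centralizer_iff.1 hy'.2 (g⁻¹ * t * g) ⟨by simpa using invol_conj ht g⁻¹, by
      rw [mul_smul, mul_smul, mem_stabilizer_iff.1 hg, htb, inv_smul_eq_iff, mem_stabilizer_iff.1 hg]⟩
    calc t * (g * y * g⁻¹) = g * ((g⁻¹ * t * g) * y) * g⁻¹ := by group
      _ = g * (y * (g⁻¹ * t * g)) * g⁻¹ := by rw [h1]
      _ = g * y * g⁻¹ * t := by group
  have hYodd : Odd (Nat.card Y) := by
    by_contra hev
    obtain ⟨i, hiY, hi⟩ := CfsgLib.Invol.exists_invol_mem (Nat.not_odd_iff_even.1 hev)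
    obtain ⟨t, s, ht, hs, htb, hsb, hts⟩ := hnc b
    obtain ⟨d, -, hdb, -, hde⟩ := transitive_fixing h.se ⊤ (u := u) (a := b) (mem_top _)
      (by rw [hub]; exact hxb) hi (mem_top _) (mem_stabilizer_iff.1 hiY.1) ht (mem_top _) htb
    refine hts ?_
    have h1 := mem_centralizer_iff.1 hiY.2 (d⁻¹ * s * d) ⟨by simpa using invol_conj hs d⁻¹, by
      rw [mul_smul, mul_smul, hdb, hsb, inv_smul_eq_iff, hdb]⟩
    rw [← hde]
    show d * i * d⁻¹ * s = s * (d * i * d⁻¹)
    calc d * i * d⁻¹ * s = d * (i * (d⁻¹ * s * d)) * d⁻¹ := by group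
      _ = d * ((d⁻¹ * s * d) * i) * d⁻¹ := by rw [h1]
      _ = s * (d * i * d⁻¹) := by group
  refine hne (le_bot_iff.1 ((le_inf hb fun z hz => mem_centralizer_iff.2 fun t ht => ?_).trans
    (eq_bot_of_normal h inf_le_left hYn hYodd).le))
  exact (mem_centralizer_iff.1 (hcent t ht.1 ht.2) z hz).symm

end CfsgLib.Bender.Full.TW
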